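import Mathlib

/-!
# A rank argument for elements of `A ⊗[B] A` (helper3)

An element of `A ⊗[B] A` is a sum of `r` pure tensors; evaluating it at pairs of points with
values in a field gives a matrix of rank at most `r`, which therefore cannot be the identity
matrix of size `r + 1`.
-/

set_option autoImplicit false
universe u

open TensorProduct

namespace Groth.Agent.H3.LocSep

theorem exists_rank_bound {B A : Type u} [CommRing B] [CommRing A] [Algebra B A]
    (a : A ⊗[B] A) :
    ∃ r : ℕ, ∀ (Ω : Type u) [Field Ω] (α : Fin (r + 1) → (A →+* Ω))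
      (θ : Fin (r + 1) → Fin (r + 1) → (A ⊗[B] A →+* Ω)),
      (∀ i j f g, θ i j (f ⊗ₜ[B] g) = α i f * α j g) → (∀ i j, i ≠ j → θ i j a = 0) →
        ¬ ∀ i, θ i i a = 1 := by
  classical
  obtain ⟨T, hT⟩ := TensorProduct.exists_finset a
  refine ⟨T.card, ?_⟩
  intro Ω _ α θ hθ hoff hdiag
  let V : Matrix (Fin (T.card + 1)) T Ω := fun i p => α i p.1.1
  let W : Matrix T (Fin (T.card + 1)) Ω := fun p j => α j p.1.2
  have hVW : V * W = 1 := by
    ext i j
    rw [Matrix.mul_apply]
    have h1 : θ i j a = ∑ p : T, V i p * W p j := by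
      rw [hT, map_sum, ← Finset.sum_coe_sort]
      refine Finset.sum_congr rfl (fun p _ => ?_)
      rw [hθ]
    rw [← h1]
    by_cases hij : i = j
    · subst hij
      rw [hdiag, Matrix.one_apply_eq]
    · rw [hoff i j hij, Matrix.one_apply_ne hij]
  have h1 : (V * W).rank = T.card + 1 := by
    rw [hVW, Matrix.rank_one, Fintype.card_fin]
  have h2 : (V * W).rank ≤ T.card := by
    refine (Matrix.rank_mul_le_left V W).trans ?_
    refine (Matrix.rank_le_card_width V).trans ?_
    rw [Fintype.card_coe]
  omega

end Groth.Agent.H3.LocSep
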