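import Mathlib
import Groth.Agent.Lib.Helper3.LocSep.Rank

/-!
# Locally separated equivalence relations on affine schemes: the scheme-level core (helper3)
-/

set_option autoImplicit false
universe u

open CategoryTheory CategoryTheory.Limits AlgebraicGeometry TensorProduct Algebra.TensorProduct
open CommRingCat

namespace Groth.Agent.H3.LocSep

variable {B A : Type u} [CommRing B] [CommRing A] [Algebra B A]

/-- Two morphisms to the spectrum of a tensor product agreeing on both factors are equal. -/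
lemma spec_tensor_hom_ext {T : Scheme.{u}} (f g : T ⟶ Spec (.of (A ⊗[B] A)))
    (h1 : f ≫ Spec.map (ofHom (includeLeftRingHom (R := B) (A := A) (B := A))) =
      g ≫ Spec.map (ofHom includeLeftRingHom))
    (h2 : f ≫ Spec.map (ofHom (R := A) (S := A ⊗[B] A) (RingHomClass.toRingHom includeRight)) =
      g ≫ Spec.map (ofHom (R := A) (S := A ⊗[B] A) (RingHomClass.toRingHom includeRight))) :
    f = g := by
  rw [← cancel_mono (pullbackSpecIso B A A).inv]
  apply pullback.hom_ext
  · simpa using h1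
  · simpa using h2

/-- the ring map underlying a morphism between spectra -/
lemma specMap_preimage_apply_closedPoint {C : Type u} [CommRing C] {Ω : Type u} [Field Ω]
    (ϑ : CommRingCat.of C ⟶ CommRingCat.of Ω) (c : C)
    (h : c ∈ ((Spec.map ϑ) (IsLocalRing.closedPoint Ω)).asIdeal) : ϑ.hom c = 0 := by
  rw [Spec.map_apply] at h
  have h1 : ϑ.hom c ∈ IsLocalRing.maximalIdeal Ω := h
  rw [IsLocalRing.maximalIdeal_eq_bot] at h1
  exact h1

/-- **Scheme-level core.**  Let `(t, s) : R ⟶ Spec A ×_{Spec B} Spec A` be an immersion with a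
section `e` of both `t` and `s` whose image is open.  Then there is a bound `r` such that among
any `r + 1` geometric points of `Spec A` which are pairwise related through `R`, two are related
through the image of `e`. -/
theorem exists_bound_of_isImmersion {R : Scheme.{u}} (t s : R ⟶ Spec (.of A))
    (w : t ≫ Spec.map (CommRingCat.ofHom (algebraMap B A)) =
      s ≫ Spec.map (CommRingCat.ofHom (algebraMap B A)))
    [IsImmersion (pullback.lift t s w)]
    (e : Spec (.of A) ⟶ R) (het : e ≫ t = 𝟙 _) (hes : e ≫ s = 𝟙 _)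
    (heo : IsOpen (Set.range e)) :
    ∃ r : ℕ, ∀ (Ω : Type u) [Field Ω] (wpt : Fin (r + 1) → (Spec (.of Ω) ⟶ Spec (.of A)))
      (ρ : Fin (r + 1) → Fin (r + 1) → (Spec (.of Ω) ⟶ R)),
      (∀ i j, i ≠ j → ρ i j ≫ t = wpt i) → (∀ i j, i ≠ j → ρ i j ≫ s = wpt j) →
      ∃ i j, i ≠ j ∧ (ρ i j) (IsLocalRing.closedPoint Ω) ∈ Set.range e := by
  classical
  let C := A ⊗[B] A
  let inL : CommRingCat.of A ⟶ CommRingCat.of C := ofHom includeLeftRingHom
  let inR : CommRingCat.of A ⟶ CommRingCat.of C :=
    ofHom (R := A) (S := A ⊗[B] A) (RingHomClass.toRingHom includeRight)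
  let J : R ⟶ Spec (.of C) := pullback.lift t s w ≫ (pullbackSpecIso B A A).hom
  have hJ1 : J ≫ Spec.map inL = t := by
    change (pullback.lift t s w ≫ (pullbackSpecIso B A A).hom) ≫ Spec.map (ofHom includeLeftRingHom) = t
    rw [Category.assoc, pullbackSpecIso_hom_fst, pullback.lift_fst]
  have hJ2 : J ≫ Spec.map inR = s := by
    change (pullback.lift t s w ≫ (pullbackSpecIso B A A).hom) ≫
      Spec.map (ofHom (R := A) (S := A ⊗[B] A) (RingHomClass.toRingHom includeRight)) = s
    rw [Category.assoc, pullbackSpecIso_hom_snd, pullback.lift_snd]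
  have hJimm : IsImmersion J := inferInstance
  let μ : C →+* A := (Algebra.TensorProduct.lmul' B (S := A)).toRingHom
  have hμL : inL ≫ ofHom μ = 𝟙 _ := by
    ext x
    change (Algebra.TensorProduct.lmul' B (S := A)) (x ⊗ₜ 1) = x
    simp
  have hμR : inR ≫ ofHom μ = 𝟙 _ := by
    ext x
    change (Algebra.TensorProduct.lmul' B (S := A)) (1 ⊗ₜ x) = x
    simp
  have heJ : e ≫ J = Spec.map (ofHom μ) := by
    apply spec_tensor_hom_ext
    · change (e ≫ J) ≫ Spec.map inL = Spec.map (ofHom μ) ≫ Spec.map inL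
      rw [Category.assoc, hJ1, het, ← Spec.map_comp, hμL, Spec.map_id]
    · change (e ≫ J) ≫ Spec.map inR = Spec.map (ofHom μ) ≫ Spec.map inR
      rw [Category.assoc, hJ2, hes, ← Spec.map_comp, hμR, Spec.map_id]
  -- the topological separation
  let D : Set (PrimeSpectrum C) := J '' (Set.range e)ᶜ
  have hsep : closure D ∩ Set.range (Spec.map (ofHom μ)) = ∅ := by
    obtain ⟨O, hO, hOe⟩ := (J.isEmbedding.isInducing.isOpen_iff).1 heo
    have hD : D ⊆ Oᶜ := by
      rintro _ ⟨x, hx, rfl⟩ hxO
      apply hx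
      rw [← hOe]
      exact hxO
    have hcl : closure D ⊆ Oᶜ := closure_minimal hD hO.isClosed_compl
    rw [Set.eq_empty_iff_forall_notMem]
    rintro z ⟨hz1, y, rfl⟩
    apply hcl hz1
    rw [← heJ]
    change e y ∈ J ⁻¹' O
    rw [hOe]
    exact ⟨y, rfl⟩
  -- the separating element
  have hμsurj : Function.Surjective μ := fun x => ⟨x ⊗ₜ 1, by
    change (Algebra.TensorProduct.lmul' B (S := A)) (x ⊗ₜ 1) = x
    simp⟩
  have hrange : Set.range (Spec.map (ofHom μ)) =
      PrimeSpectrum.zeroLocus (RingHom.ker μ : Set C) := by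
    have := range_comap_of_surjective _ μ hμsurj
    exact this
  have htop : PrimeSpectrum.vanishingIdeal D ⊔ RingHom.ker μ = ⊤ := by
    rw [← PrimeSpectrum.zeroLocus_empty_iff_eq_top, PrimeSpectrum.zeroLocus_sup,
      PrimeSpectrum.zeroLocus_vanishingIdeal_eq_closure, ← hrange]
    exact hsep
  obtain ⟨a, ha, b, hb, hab⟩ := Submodule.mem_sup.1 (htop ▸ Submodule.mem_top : (1 : C) ∈ _)
  have hμa : μ a = 1 := by
    have h1 : μ b = 0 := hb
    have h2 := congrArg μ hab
    rw [map_add, h1, add_zero, map_one] at h2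
    exact h2
  rw [PrimeSpectrum.mem_vanishingIdeal] at ha
  obtain ⟨r, hr⟩ := exists_rank_bound a
  refine ⟨r, ?_⟩
  intro Ω _ wpt ρ h1 h2
  by_contra hcon
  push Not at hcon
  let α : Fin (r + 1) → (A →+* Ω) := fun i => (Spec.preimage (wpt i)).hom
  let ϑ : Fin (r + 1) → Fin (r + 1) → (CommRingCat.of C ⟶ CommRingCat.of Ω) := fun i j =>
    Spec.preimage (ρ i j ≫ J)
  let θ : Fin (r + 1) → Fin (r + 1) → (C →+* Ω) := fun i j =>
    if i = j then (α i).comp μ else (ϑ i j).hom
  have hϑL : ∀ i j, i ≠ j → ∀ f : A, (ϑ i j).hom (f ⊗ₜ 1) = α i f := by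
    intro i j hij f
    have h3 : inL ≫ ϑ i j = Spec.preimage (wpt i) := by
      apply Spec.map_injective
      rw [Spec.map_comp, Spec.map_preimage, Spec.map_preimage, Category.assoc, hJ1, h1 i j hij]
    exact congrArg (fun ψ => ψ.hom f) h3
  have hϑR : ∀ i j, i ≠ j → ∀ g : A, (ϑ i j).hom (1 ⊗ₜ g) = α j g := by
    intro i j hij g
    have h3 : inR ≫ ϑ i j = Spec.preimage (wpt j) := by
      apply Spec.map_injective
      rw [Spec.map_comp, Spec.map_preimage, Spec.map_preimage, Category.assoc, hJ2, h2 i j hij]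
    exact congrArg (fun ψ => ψ.hom g) h3
  apply hr Ω α θ
  · intro i j f g
    by_cases hij : i = j
    · subst hij
      simp only [θ, if_true, RingHom.comp_apply]
      rw [← map_mul]
      congr 1
    · simp only [θ, if_neg hij]
      have : (f ⊗ₜ[B] g : C) = (f ⊗ₜ 1) * (1 ⊗ₜ g) := by
        rw [Algebra.TensorProduct.tmul_mul_tmul, mul_one, one_mul]
      rw [this, map_mul, hϑL i j hij, hϑR i j hij]
  · intro i j hij
    simp only [θ, if_neg hij]
    apply specMap_preimage_apply_closedPoint (ϑ i j) a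
    rw [Spec.map_preimage]
    apply ha
    exact ⟨(ρ i j) (IsLocalRing.closedPoint Ω), hcon i j hij, rfl⟩
  · intro i
    simp only [θ, if_true, RingHom.comp_apply]
    rw [hμa, map_one]

end Groth.Agent.H3.LocSep
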