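import Mathlib
import Groth.Agent.Lib.Helper3.LocSep.SchemeCore
import Groth.Agent.Lib.Helper3.EtaleDeg.Fibre
import Groth.Agent.Lib.Helper3.Decent.QCPoint
import Groth.Agent.Lib.Helper5.AlgSp.DiagPres

/-!
# Field points of locally separated algebraic spaces have finite fibres in affine étale charts
(helper3)
-/

set_option autoImplicit false
set_option linter.unusedSectionVars false
universe u

open CategoryTheory CategoryTheory.Limits AlgebraicGeometry TensorProduct
open AlgSp

namespace Groth.Agent.H3.LocSep

open Groth.Agent.H5.AlgSp Groth.Agent.H3.EtaleDeg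

variable {S : Scheme.{u}}

/-- The diagonal section of the kernel pair of an étale chart is an open immersion. -/
lemma isOpenImmersion_section {U R : Over S} (s : R ⟶ U) (e : U ⟶ R) (hes : e ≫ s = 𝟙 U)
    [Etale s.left] : IsOpenImmersion e.left := by
  have h1 : e.left ≫ s.left = 𝟙 U.left := by
    rw [← Over.comp_left, hes, Over.id_left]
  have h2 : Etale (e.left ≫ s.left) := by
    rw [h1]
    infer_instance
  have h3 : Etale e.left := Etale.of_comp (f := e.left) s.left
  have h4 : Mono e.left := mono_of_mono_fac h1
  exact IsOpenImmersion.of_flat_of_mono e.left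

/-- For a locally separated space, the kernel pair of a chart from `Spec A` maps by an immersion
to `Spec A ×_{Spec B} Spec A` for every affine scheme `Spec B` under `S`. -/
lemma isImmersion_lift_of_isLocallySeparated {X : Sp S}
    (hls : RepWith @IsImmersion (Limits.diag X))
    {B A : Type u} [CommRing B] [CommRing A] [Algebra B A] (str : Spec (.of A) ⟶ S)
    (q : S ⟶ Spec (.of B)) (hq : str ≫ q = Spec.map (CommRingCat.ofHom (algebraMap B A)))
    {ψ : (yon S).obj (Over.mk str) ⟶ X} {R : Over S} {s t : R ⟶ Over.mk str}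
    (sq : IsPullback ((yon S).map t) ((yon S).map s) ψ ψ)
    (w : t.left ≫ Spec.map (CommRingCat.ofHom (algebraMap B A)) =
      s.left ≫ Spec.map (CommRingCat.ofHom (algebraMap B A))) :
    IsImmersion (pullback.lift t.left s.left w) := by
  have h1 : IsImmersion (prod.lift t s).left := prop_prodLift_of_repWith_diag hls sq
  have key : pullback.lift t.left s.left w = (prod.lift t s).left ≫
      (Over.prodLeftIsoPullback (Over.mk str) (Over.mk str)).hom ≫
        pullback.mapDesc str str q ≫ (pullback.congrHom hq hq).hom := by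
    apply pullback.hom_ext
    · rw [pullback.lift_fst, pullback.congrHom_hom]
      simp only [Category.assoc, pullback.lift_fst, Category.comp_id]
      erw [Over.prodLeftIsoPullback_hom_fst]
      rw [← Over.comp_left, prod.lift_fst]
    · rw [pullback.lift_snd, pullback.congrHom_hom]
      simp only [Category.assoc, pullback.lift_snd, Category.comp_id]
      erw [Over.prodLeftIsoPullback_hom_snd]
      rw [← Over.comp_left, prod.lift_snd]
  rw [key]
  infer_instance

/-- **Finiteness of fibres for locally separated spaces.**  For a locally separated algebraic space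
`X`, an étale chart `Spec A ⟶ X` and a morphism `Spec k ⟶ X` from the spectrum of a field, the
fibre product `Spec k ×_X Spec A` is a finite scheme. -/
theorem finite_pullback_of_isLocallySeparated {X : Sp S}
    (hls : RepWith @IsImmersion (Limits.diag X))
    {A : Type u} [CommRing A] (str : Spec (.of A) ⟶ S)
    {ψ : (yon S).obj (Over.mk str) ⟶ X} (hψ : RepWith @Etale ψ)
    {k : Type u} [Field k] (strk : Spec (.of k) ⟶ S) (ξ : (yon S).obj (Over.mk strk) ⟶ X)
    {F : Over S} (pk : F ⟶ Over.mk strk) (pU : F ⟶ Over.mk str)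
    (sqF : IsPullback ((yon S).map pk) ((yon S).map pU) ξ ψ) : Finite ↥F.left := by
  classical
  -- the kernel pair of the chart
  let U : Over S := Over.mk str
  let R : Over S := hψ.rep.pullback ψ
  let t : R ⟶ U := hψ.rep.fst' ψ
  let s : R ⟶ U := hψ.rep.snd ψ
  have sq : IsPullback ((yon S).map t) ((yon S).map s) ψ ψ := hψ.rep.isPullback' ψ
  have hse : Etale s.left := hψ.property_snd ψ
  -- the diagonal section
  obtain ⟨e, he⟩ := (yon S).map_surjective (sq.lift (𝟙 _) (𝟙 _) rfl)
  have het : e ≫ t = 𝟙 U := by
    apply (yon S).map_injective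
    rw [Functor.map_comp, he, sq.lift_fst, CategoryTheory.Functor.map_id]
  have hes : e ≫ s = 𝟙 U := by
    apply (yon S).map_injective
    rw [Functor.map_comp, he, sq.lift_snd, CategoryTheory.Functor.map_id]
  have heo : IsOpenImmersion e.left := isOpenImmersion_section s e hes
  -- the affine scheme under `S`
  let B : Type u := Γ(S, ⊤)
  let q : S ⟶ Spec (.of B) := S.toSpecΓ
  let β : CommRingCat.of B ⟶ CommRingCat.of A := Spec.preimage (str ≫ q)
  algebraize [β.hom]
  have hq : str ≫ q = Spec.map (CommRingCat.ofHom (algebraMap B A)) :=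
    (Spec.map_preimage (str ≫ q)).symm
  have w : t.left ≫ Spec.map (CommRingCat.ofHom (algebraMap B A)) =
      s.left ≫ Spec.map (CommRingCat.ofHom (algebraMap B A)) := by
    rw [← hq, ← Category.assoc, ← Category.assoc]
    congr 1
    exact (Over.w t).trans (Over.w s).symm
  have himm : IsImmersion (pullback.lift t.left s.left w) :=
    isImmersion_lift_of_isLocallySeparated hls str q hq sq w
  have het' : e.left ≫ t.left = 𝟙 _ := by rw [← Over.comp_left, het, Over.id_left]
  have hes' : e.left ≫ s.left = 𝟙 _ := by rw [← Over.comp_left, hes, Over.id_left]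
  obtain ⟨r, hr⟩ := exists_bound_of_isImmersion (B := B) t.left s.left w e.left het' hes'
    e.left.isOpenEmbedding.isOpen_range
  -- suppose the fibre product is infinite
  by_contra hinf
  rw [not_finite_iff_infinite] at hinf
  let y : Fin (r + 1) → ↥F.left := fun i => Infinite.natEmbedding ↥F.left i
  have hyinj : Function.Injective y := fun i j hij =>
    Fin.val_injective ((Infinite.natEmbedding ↥F.left).injective hij)
  obtain ⟨Ω, _, zb, w', -, hw', hwy⟩ := exists_common_lifts pk.left (IsLocalRing.closedPoint k)
    (r + 1) y (fun i => Subsingleton.elim (α := PrimeSpectrum k) _ _)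
  let TΩ : Over S := Over.mk (zb ≫ strk)
  have hFhom : F.hom = pk.left ≫ strk := (Over.w pk).symm
  let wO : Fin (r + 1) → (TΩ ⟶ F) := fun i => Over.homMk (w' i) (by
    change w' i ≫ F.hom = zb ≫ strk
    rw [hFhom, ← Category.assoc, hw'])
  let zbO : TΩ ⟶ Over.mk strk := Over.homMk zb rfl
  have hwk : ∀ i, wO i ≫ pk = zbO := fun i => Over.OverMorphism.ext (hw' i)
  have hcomm : ∀ i, (yon S).map (wO i ≫ pU) ≫ ψ = (yon S).map zbO ≫ ξ := fun i => by
    rw [Functor.map_comp, Category.assoc, ← sqF.w, ← Category.assoc, ← Functor.map_comp, hwk]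
  have hρ : ∀ i j, ∃ ρ : TΩ ⟶ R, ρ ≫ t = wO i ≫ pU ∧ ρ ≫ s = wO j ≫ pU := fun i j => by
    obtain ⟨ρ, hρ⟩ := (yon S).map_surjective
      (sq.lift ((yon S).map (wO i ≫ pU)) ((yon S).map (wO j ≫ pU)) ((hcomm i).trans (hcomm j).symm))
    refine ⟨ρ, ?_, ?_⟩
    · apply (yon S).map_injective
      rw [Functor.map_comp, hρ, sq.lift_fst]
    · apply (yon S).map_injective
      rw [Functor.map_comp, hρ, sq.lift_snd]
  choose ρ hρt hρs using hρ
  obtain ⟨i, j, hij, hmem⟩ := hr Ω (fun i => (wO i ≫ pU).left) (fun i j => (ρ i j).left)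
    (fun i j _ => by rw [← Over.comp_left, hρt]) (fun i j _ => by rw [← Over.comp_left, hρs])
  -- the two geometric points agree
  have hsub : Set.range (ρ i j).left ⊆ Set.range e.left := by
    rintro _ ⟨z, rfl⟩
    rw [eq_closedPoint z]
    exact hmem
  let γ := IsOpenImmersion.lift e.left (ρ i j).left hsub
  have hγ : γ ≫ e.left = (ρ i j).left := IsOpenImmersion.lift_fac _ _ _
  have h1 : (wO i ≫ pU).left = γ := by
    rw [← hρt i j, Over.comp_left, ← hγ, Category.assoc, het', Category.comp_id]
  have h2 : (wO j ≫ pU).left = γ := by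
    rw [← hρs i j, Over.comp_left, ← hγ, Category.assoc, hes', Category.comp_id]
  have h3 : wO i ≫ pU = wO j ≫ pU := Over.OverMorphism.ext (h1.trans h2.symm)
  have h4 : (yon S).map (wO i) = (yon S).map (wO j) := by
    apply sqF.hom_ext
    · rw [← Functor.map_comp, ← Functor.map_comp, hwk, hwk]
    · rw [← Functor.map_comp, ← Functor.map_comp, h3]
  have h5 : wO i = wO j := (yon S).map_injective h4
  have h6 : w' i = w' j := congrArg (fun m => m.left) h5
  apply hij
  apply hyinj
  rw [← hwy i, ← hwy j, h6]

end Groth.Agent.H3.LocSep
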