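import Mathlib
import Groth.Agent.Lib.Helper3.LocSep.SpCore
import Groth.Agent.Lib.Helper3.Decent.FinChart

/-!
# Locally separated algebraic spaces are decent (helper3)
-/

set_option autoImplicit false
set_option linter.unusedSectionVars false
universe u

open CategoryTheory CategoryTheory.Limits AlgebraicGeometry TensorProduct
open AlgSp

namespace Groth.Agent.H3.LocSep

open Groth.Agent.H5.AlgSp Groth.Agent.H3.Decent

variable {S : Scheme.{u}}

/-- A morphism from the spectrum of a field is quasi-compact as soon as its fibre products with a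
jointly surjective family of étale charts are finite schemes. -/
theorem repWith_quasiCompact_of_finite_pullback {X : Sp S} (hX : IsAlgSpace X)
    {K : Type u} [Field K] (str : Spec (CommRingCat.of K) ⟶ S)
    (p : (yon S).obj (Over.mk str) ⟶ X) {ι : Type*} (V : ι → Over S)
    (ψ : ∀ i, (yon S).obj (V i) ⟶ X) (hψ : ∀ i, RepWith @Etale (ψ i))
    (hsurj : ∀ y : Points X, ∃ (i : ι) (v : ↥(V i).left), Points.ofPt (ψ i) v = y)
    (hfin : ∀ i, Finite ↥((hX.representable_from_yon p).pullback (ψ i)).left) :
    RepWith @QuasiCompact p := by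
  have hrep : Representable p := hX.representable_from_yon p
  refine (repWith_quasiCompact_iff hrep).2 (isQuasiCompactMor_of_etale_cover
    (IsAlgSpace.yon_obj _) hX V ψ hψ hsurj (fun i => ?_))
  apply isQuasiCompactMor_of_repWith
  have sqE := hrep.isPullback (ψ i)
  have sqP := IsPullback.of_hasPullback p (ψ i)
  let e₀ : (yon S).obj (hrep.pullback (ψ i)) ≅ pullback p (ψ i) := sqE.isoIsPullback _ _ sqP
  have he₀ : e₀.hom ≫ pullback.snd p (ψ i) = (yon S).map (hrep.snd (ψ i)) :=
    sqE.isoIsPullback_hom_snd _ _ sqP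
  rw [← MorphismProperty.cancel_left_of_respectsIso (RepWith @QuasiCompact) e₀.hom, he₀,
    repWith_yon_map_iff]
  have hfinE : Finite ↥(hrep.pullback (ψ i)).left := hfin i
  change QuasiCompact (hrep.snd (ψ i)).left
  rw [quasiCompact_iff]
  intro U _ _
  exact (Set.toFinite _).isCompact

/-- **Every morphism from the spectrum of a field to a locally separated algebraic space is
quasi-compact.** -/
theorem repWith_quasiCompact_of_isLocallySeparatedSp {X : Sp S} (hX : IsAlgSpace X)
    (hls : IsLocallySeparatedSp X) {k : Type u} [Field k] (strk : Spec (.of k) ⟶ S)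
    (ξ : (yon S).obj (Over.mk strk) ⟶ X) : RepWith @QuasiCompact ξ := by
  obtain ⟨U₀, a, hae, has⟩ := hX.atlas
  let 𝒰 := U₀.left.affineOpenCover
  let V : 𝒰.I₀ → Over S := fun i => Over.mk (𝒰.f i ≫ U₀.hom)
  let c : ∀ i, V i ⟶ U₀ := fun i => Over.homMk (𝒰.f i) rfl
  let ψ : ∀ i, (yon S).obj (V i) ⟶ X := fun i => (yon S).map (c i) ≫ a
  have hψ : ∀ i, RepWith @Etale (ψ i) := fun i =>
    repWith_comp_yon_map @Etale (c i) (inferInstanceAs (Etale (𝒰.f i))) hae
  refine repWith_quasiCompact_of_finite_pullback hX strk ξ V ψ hψ ?_ ?_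
  · intro y
    obtain ⟨u₀, rfl⟩ := ofPt_surjective_of_repWith has y
    obtain ⟨z, hz⟩ := 𝒰.covers u₀
    refine ⟨𝒰.idx u₀, z, ?_⟩
    change Points.ofPt ((yon S).map (c (𝒰.idx u₀)) ≫ a) z = _
    rw [ofPt_yon_map_comp]
    congr 1
  · intro i
    have hrep : Representable ξ := hX.representable_from_yon ξ
    exact finite_pullback_of_isLocallySeparated hls (𝒰.f i ≫ U₀.hom) (hψ i) strk ξ
      (hrep.fst' (ψ i)) (hrep.snd (ψ i)) (hrep.isPullback' (ψ i))

/-- **A locally separated algebraic space is decent.** -/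
theorem isDecent_of_isLocallySeparatedSp {X : Sp S} (hX : IsAlgSpace X)
    (hls : IsLocallySeparatedSp X) : IsDecent X := by
  apply isDecent_of_forall_quasiCompact_point hX
  intro x
  obtain ⟨k, _, str, ξ, rfl⟩ := exists_fpOfHom x
  exact ⟨k, inferInstance, str, ξ, rfl, repWith_quasiCompact_of_isLocallySeparatedSp hX hls str ξ⟩

end Groth.Agent.H3.LocSep
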